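import Mathlib
import Cfsg.Agent.Lib.Helper58.UPair.Defs
import Cfsg.Agent.Lib.Helper63.UPair.Transv
import Cfsg.Agent.Lib.Helper72.UPair.Emb

/-!
# Project UPair (S5984): package [DETFIX]

From the embedding `φ : GL_m(q²) → GU_n(q)` of [EMB] (`det (φ A) * (det A)^q = det A`): pick
`c ≠ 0` with `d * c^q = c` (Hilbert 90) and `A` with `det A = c`.
-/

set_option autoImplicit false
open scoped MatrixGroups Matrix

namespace Cfsg.Agent.Lib.Helper63.UPair

open Cfsg.Agent.Lib.Helper58.UPair Cfsg.Agent.Lib.Helper45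

universe u

/-- Hilbert 90 for the norm-one elements. -/
theorem df_hilbert {F : Type u} [Field F] [Fintype F] {q : ℕ} (hF : Fintype.card F = q ^ 2)
    (d : F) (hd : d ^ (q + 1) = 1) : ∃ c : F, c ≠ 0 ∧ d * c ^ q = c := by
  by_cases h : (1 : F) + d = 0
  · obtain ⟨β, hβ0, hβ⟩ := tv_exists_beta hF
    refine ⟨β, hβ0, ?_⟩
    have hd1 : d = -1 := eq_neg_of_add_eq_zero_right h
    rw [hβ, hd1]; ring
  · refine ⟨1 + d, h, ?_⟩
    rw [conj_add hF, one_pow, mul_add, mul_one, ← pow_succ', hd, add_comm]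

/-- An invertible matrix with prescribed non-zero determinant. -/
theorem df_exists_det {F : Type u} [Field F] {m : ℕ} (hm : 0 < m) (c : F) (hc : c ≠ 0) :
    ∃ A : GL (Fin m) F, (A : Matrix (Fin m) (Fin m) F).det = c := by
  classical
  set M : Matrix (Fin m) (Fin m) F :=
    Matrix.diagonal (Function.update (fun _ => (1 : F)) (⟨0, hm⟩ : Fin m) c) with hM
  have hdet : M.det = c := by
    rw [hM, Matrix.det_diagonal, Finset.prod_update_of_mem (Finset.mem_univ _)]
    simp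
  refine ⟨Matrix.GeneralLinearGroup.mkOfDetNeZero M (by rw [hdet]; exact hc), ?_⟩
  exact hdet

theorem pkgDetFix : PkgDetFix.{u} := by
  intro F _ _ q n m D b d hF hD hb hd
  classical
  obtain ⟨φ, -, hφ⟩ := Cfsg.Agent.Lib.Helper72.UPair.pkgEmb F q n m D b hF hD hb
  obtain ⟨c, hc0, hc⟩ := df_hilbert hF d hd
  obtain ⟨A, hA⟩ := df_exists_det hD.1.pos c hc0
  obtain ⟨h1, h2, h3⟩ := hφ A
  refine ⟨φ A, h1, ?_, h2⟩
  rw [hA] at h3
  have hcq : c ^ q ≠ 0 := pow_ne_zero _ hc0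
  apply mul_right_cancel₀ hcq
  rw [h3, hc]

end Cfsg.Agent.Lib.Helper63.UPair
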